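import Cfsg.Agent.Lib.SUPres.Base.Cert

/-! Generators, relators and coset tables of a certified presentation of a special unitary group. -/

set_option autoImplicit false

namespace CfsgLib.SUPres.Base.SU33

/-- The generators. -/
def gens : List (List ℕ) := [
  [0, 1, 0, 6, 0, 0, 0, 0, 6],
  [5, 2, 1, 6, 6, 4, 2, 5, 1],
  [2, 0, 0, 0, 1, 0, 0, 0, 2]]

/-- The relators. -/
def rels : List (List ℕ) := [
  [2, 2, 2],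
  [0, 0, 2, 1, 3, 1, 3],
  [0, 0, 0, 0, 0, 0, 0, 0],
  [4, 4],
  [0, 0, 0, 4, 0, 4],
  [0, 2, 4, 0, 2, 4, 0, 2, 4],
  [0, 0, 2, 4, 2, 4, 2, 4, 3, 0, 2, 4, 2]]

/-- A basis adapted to the parabolic subgroup. -/
def basisB : List ℕ := [1, 0, 2, 4, 0, 4, 0, 1, 0]

/-- Its inverse. -/
def basisBi : List ℕ := [2, 7, 0, 0, 0, 1, 1, 7, 0]

/-- The table of level 2. -/
def tab2 : Tab where
  n := 27
  j := 2
  act := [
    [0, 0, 2, 1], [4, 3, 0, 2], [6, 5, 1, 0], [1, 7, 8, 7], [11, 1, 10, 9], [2, 12, 11, 6], [13, 2, 5, 11],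
    [3, 14, 3, 8], [16, 15, 7, 3], [17, 13, 4, 10], [19, 18, 9, 4], [20, 4, 6, 5], [5, 21, 14, 20], [9, 6, 19, 21],
    [7, 22, 20, 12], [8, 19, 23, 22], [24, 8, 18, 24], [21, 9, 26, 25], [10, 25, 24, 16], [15, 10, 21, 13],
    [22, 11, 12, 14], [12, 17, 13, 19], [14, 20, 15, 23], [26, 26, 22, 15], [25, 16, 16, 18], [18, 24, 17, 26],
    [23, 23, 25, 17]]
  tree := [
    (0, 3), (0, 2), (1, 1), (1, 0), (2, 1), (2, 0), (3, 3), (3, 2), (4, 3), (4, 2), (4, 0), (5, 1), (6, 0), (7, 1),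
    (8, 1), (8, 0), (9, 0), (10, 1), (10, 0), (11, 0), (12, 1), (14, 1), (15, 2), (16, 3), (17, 3), (17, 2)]
  deds := [
    (1, 0, 2), (7, 0, 2), (9, 0, 2), (25, 0, 2), (6, 1, 5), (6, 1, 3), (19, 1, 3), (16, 1, 5), (9, 1, 2),
    (3, 1, 1), (24, 1, 2), (12, 1, 0), (25, 1, 2), (22, 1, 0), (22, 2, 4), (21, 2, 5), (11, 0, 1), (22, 0, 2),
    (24, 0, 2), (20, 1, 5), (13, 1, 3), (19, 1, 4), (23, 1, 4), (14, 1, 0), (25, 1, 4), (26, 1, 6), (21, 1, 3)]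

/-- The table of level 3. -/
def tab3 : Tab where
  n := 28
  j := 3
  act := [
    [0, 0, 0, 0, 1, 1], [1, 1, 3, 2, 0, 0], [6, 5, 1, 3, 4, 4], [8, 7, 2, 1, 5, 5], [12, 11, 10, 9, 2, 2],
    [2, 13, 14, 13, 3, 3], [17, 2, 16, 15, 10, 10], [3, 12, 17, 8, 17, 17], [10, 3, 7, 17, 18, 18],
    [19, 16, 4, 10, 9, 9], [15, 8, 9, 4, 6, 6], [4, 15, 22, 21, 20, 20], [7, 4, 23, 20, 23, 23],
    [5, 23, 5, 14, 15, 15], [24, 19, 13, 5, 14, 14], [11, 10, 6, 16, 13, 13], [9, 25, 15, 6, 24, 24],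
    [20, 6, 8, 7, 7, 7], [23, 20, 19, 26, 8, 8], [14, 9, 26, 18, 21, 21], [18, 17, 12, 23, 11, 11],
    [25, 27, 11, 22, 19, 19], [26, 26, 21, 11, 26, 26], [13, 18, 20, 12, 12, 12], [27, 14, 25, 27, 16, 16],
    [16, 21, 27, 24, 25, 25], [22, 22, 18, 19, 22, 22], [21, 24, 24, 25, 27, 27]]
  tree := [
    (0, 5), (1, 3), (1, 2), (2, 5), (2, 1), (2, 0), (3, 1), (3, 0), (4, 3), (4, 2), (4, 1), (4, 0), (5, 3), (5, 2),
    (6, 3), (6, 2), (6, 0), (8, 5), (9, 0), (11, 5), (11, 3), (11, 2), (12, 5), (14, 0), (16, 1), (18, 3), (21, 1)]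
  deds := [
    (2, 0, 2), (9, 0, 2), (13, 0, 2), (15, 0, 2), (21, 0, 2), (24, 1, 5), (1, 3, 1), (4, 3, 1), (18, 3, 1),
    (20, 3, 1), (23, 3, 1), (1, 4, 5), (20, 4, 3), (5, 5, 6), (14, 6, 8), (8, 1, 5), (8, 1, 3), (5, 1, 1),
    (3, 3, 0), (7, 4, 2), (7, 4, 4), (17, 4, 4), (23, 4, 5), (18, 4, 2), (13, 4, 2), (12, 5, 5), (17, 0, 1),
    (10, 1, 6), (16, 1, 6), (10, 1, 1), (12, 1, 0), (11, 1, 1), (19, 1, 3), (19, 1, 6), (20, 1, 3), (25, 1, 1),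
    (27, 1, 1), (25, 1, 0), (13, 4, 4), (6, 4, 0), (10, 4, 0), (19, 4, 4), (15, 4, 0), (16, 4, 0), (27, 4, 4),
    (24, 4, 4), (24, 5, 5), (25, 5, 6), (21, 5, 3), (9, 6, 4), (26, 6, 10), (26, 6, 4), (26, 0, 2), (26, 1, 4),
    (22, 3, 0)]

/-- Test vectors separating the cosets of level 3. -/
def vecs3 : List (List ℕ) := [
  [7, 8, 8],
  [5, 4, 7],
  [0, 7, 1],
  [3, 1, 3],
  [8, 5, 7],
  [2, 6, 3],
  [7, 4, 7],
  [7, 3, 0],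
  [7, 1, 0],
  [8, 0, 6],
  [8, 4, 7],
  [7, 0, 2],
  [4, 0, 1],
  [8, 8, 7],
  [2, 6, 1],
  [0, 8, 2],
  [7, 7, 8],
  [1, 0, 7],
  [8, 4, 8],
  [0, 8, 3],
  [4, 1, 0],
  [7, 4, 4],
  [0, 7, 3],
  [1, 2, 2],
  [2, 2, 1],
  [6, 6, 6],
  [4, 6, 0]]

end CfsgLib.SUPres.Base.SU33
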