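import Cfsg.Agent.Lib.SUPres.Base.Cert

/-! Generators, relators and coset tables of a certified presentation of a special unitary group. -/

set_option autoImplicit false

namespace CfsgLib.SUPres.Base.SU35

/-- The generators. -/
def gens : List (List ℕ) := [
  [14, 14, 0, 16, 14, 0, 0, 0, 18],
  [4, 1, 9, 1, 3, 13, 6, 12, 1],
  [0, 4, 0, 4, 0, 0, 0, 0, 4]]

/-- The relators. -/
def rels : List (List ℕ) := [
  [0, 0, 0, 0, 0, 0, 0, 0, 0, 0, 0, 0, 0, 0, 0, 0, 0, 0, 0, 0, 0, 0, 0, 0],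
  [2, 2, 2, 2, 2],
  [0, 0, 2, 1, 1, 2, 2],
  [0, 2, 0, 2, 0, 2, 1, 2, 1, 2, 1, 3],
  [4, 4],
  [0, 0, 0, 0, 0, 4, 0, 4],
  [0, 2, 4, 2, 2, 4, 2, 1, 4],
  [0, 2, 4, 0, 2, 4, 0, 2, 4, 0, 2, 4, 0, 2, 5]]

/-- A basis adapted to the parabolic subgroup. -/
def basisB : List ℕ := [1, 0, 3, 2, 0, 4, 0, 1, 0]

/-- Its inverse. -/
def basisBi : List ℕ := [3, 4, 0, 0, 0, 1, 1, 2, 0]

/-- The table of level 2. -/
def tab2 : Tab where
  n := 125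
  j := 2
  act := [
    [0, 0, 2, 1], [5, 4, 0, 3], [8, 7, 6, 0], [7, 5, 1, 6], [1, 6, 10, 9], [3, 1, 12, 11], [4, 8, 3, 2],
    [2, 3, 14, 13], [6, 2, 16, 15], [19, 18, 4, 17], [22, 21, 20, 4], [25, 24, 5, 23], [28, 27, 26, 5],
    [31, 30, 7, 29], [34, 33, 32, 7], [37, 36, 8, 35], [40, 39, 38, 8], [27, 37, 9, 20], [9, 38, 42, 41],
    [23, 9, 44, 43], [24, 40, 17, 10], [10, 35, 46, 45], [26, 10, 48, 47], [33, 19, 11, 26], [11, 20, 50, 49],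
    [29, 11, 52, 51], [30, 22, 23, 12], [12, 17, 54, 53], [32, 12, 56, 55], [39, 25, 13, 32], [13, 26, 58, 57],
    [35, 13, 60, 59], [36, 28, 29, 14], [14, 23, 62, 61], [38, 14, 64, 63], [21, 31, 15, 38], [15, 32, 66, 65],
    [17, 15, 68, 67], [18, 34, 35, 16], [16, 29, 70, 69], [20, 16, 72, 71], [74, 61, 18, 73], [62, 76, 75, 18],
    [53, 77, 19, 76], [80, 79, 78, 19], [82, 46, 21, 81], [45, 84, 83, 21], [70, 86, 22, 85], [88, 87, 82, 22],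
    [83, 60, 24, 89], [92, 91, 90, 24], [93, 56, 25, 86], [68, 95, 94, 25], [97, 43, 27, 96], [100, 99, 98, 27],
    [89, 71, 28, 101], [51, 90, 102, 28], [58, 85, 30, 103], [105, 57, 104, 30], [107, 106, 31, 105],
    [49, 108, 84, 31], [41, 109, 33, 97], [78, 42, 110, 33], [112, 111, 34, 74], [66, 101, 109, 34],
    [114, 113, 36, 95], [75, 64, 93, 36], [72, 116, 37, 115], [117, 52, 77, 37], [119, 118, 39, 116],
    [103, 47, 117, 39], [55, 98, 40, 120], [96, 67, 108, 40], [79, 112, 41, 75], [76, 41, 63, 109],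
    [77, 66, 73, 42], [42, 74, 43, 78], [43, 75, 115, 68], [109, 62, 76, 44], [44, 73, 121, 107],
    [110, 44, 106, 112], [87, 107, 45, 83], [85, 45, 85, 48], [86, 49, 81, 46], [46, 105, 105, 60],
    [57, 82, 47, 82], [47, 83, 51, 94], [48, 81, 112, 122], [104, 48, 107, 111], [95, 55, 49, 90],
    [56, 96, 89, 50], [50, 120, 118, 100], [94, 50, 123, 99], [116, 51, 95, 66], [118, 92, 86, 52],
    [52, 89, 65, 93], [90, 72, 53, 98], [101, 53, 61, 110], [71, 117, 96, 54], [54, 115, 92, 113],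
    [102, 54, 91, 124], [64, 97, 55, 102], [113, 100, 101, 56], [108, 70, 57, 104], [106, 88, 103, 58],
    [84, 58, 59, 84], [59, 104, 122, 80], [81, 59, 79, 88], [60, 103, 120, 72], [61, 78, 74, 64],
    [111, 80, 97, 62], [63, 110, 88, 121], [73, 63, 80, 87], [65, 102, 99, 119], [115, 65, 124, 118],
    [99, 114, 67, 77], [67, 93, 69, 117], [98, 68, 116, 70], [69, 94, 114, 91], [120, 69, 113, 123],
    [91, 119, 71, 108], [124, 123, 111, 79], [123, 124, 87, 106], [121, 122, 119, 92], [122, 121, 100, 114]]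
  tree := [
    (0, 3), (0, 2), (1, 3), (1, 1), (1, 0), (2, 2), (2, 1), (2, 0), (4, 3), (4, 2), (5, 3), (5, 2), (7, 3), (7, 2),
    (8, 3), (8, 2), (9, 3), (9, 1), (9, 0), (10, 2), (10, 1), (10, 0), (11, 3), (11, 1), (11, 0), (12, 2), (12, 1),
    (12, 0), (13, 3), (13, 1), (13, 0), (14, 2), (14, 1), (14, 0), (15, 3), (15, 1), (15, 0), (16, 2), (16, 1),
    (16, 0), (18, 3), (18, 2), (19, 3), (19, 2), (21, 3), (21, 2), (22, 3), (22, 2), (24, 3), (24, 2), (25, 3),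
    (25, 2), (27, 3), (27, 2), (28, 3), (28, 2), (30, 3), (30, 2), (31, 3), (31, 2), (33, 3), (33, 2), (34, 3),
    (34, 2), (36, 3), (36, 2), (37, 3), (37, 2), (39, 3), (39, 2), (40, 3), (40, 2), (41, 3), (41, 0), (42, 2),
    (42, 1), (43, 1), (44, 2), (44, 1), (44, 0), (45, 3), (45, 0), (46, 2), (46, 1), (47, 3), (47, 1), (48, 1),
    (48, 0), (49, 3), (50, 2), (50, 1), (50, 0), (51, 0), (52, 2), (52, 1), (53, 3), (53, 0), (54, 2), (54, 1),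
    (54, 0), (55, 3), (56, 2), (57, 3), (58, 2), (58, 0), (59, 1), (59, 0), (60, 1), (61, 1), (62, 2), (63, 1),
    (63, 0), (65, 1), (65, 0), (67, 3), (67, 1), (68, 0), (69, 1), (69, 0), (71, 3), (79, 2), (87, 3), (92, 2),
    (100, 3)]
  deds := [
    (3, 1, 3), (17, 1, 3), (23, 1, 3), (29, 1, 3), (35, 1, 3), (73, 1, 3), (81, 1, 3), (89, 1, 3), (96, 1, 3),
    (101, 1, 3), (103, 1, 3), (3, 2, 5), (8, 2, 4), (17, 2, 5), (4, 2, 1), (29, 2, 5), (35, 2, 5), (22, 2, 4),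
    (73, 2, 5), (24, 2, 1), (81, 2, 5), (89, 2, 5), (34, 2, 4), (103, 2, 5), (36, 2, 1), (40, 2, 4), (18, 2, 1),
    (120, 2, 5), (77, 2, 1), (86, 2, 1), (92, 2, 4), (106, 2, 1), (111, 2, 1), (67, 3, 7), (51, 3, 5), (47, 3, 9),
    (107, 3, 6), (112, 3, 8), (106, 3, 4), (49, 3, 3), (116, 3, 4), (42, 3, 11), (105, 3, 10), (45, 3, 3),
    (66, 3, 11), (41, 3, 1), (113, 3, 2), (57, 3, 1), (3, 2, 2), (23, 2, 5), (23, 2, 2), (35, 2, 2), (17, 2, 2),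
    (43, 2, 6), (28, 2, 4), (30, 2, 1), (115, 2, 5), (69, 2, 6), (76, 2, 2), (85, 2, 2), (85, 2, 3), (103, 2, 2),
    (104, 2, 2), (62, 2, 4), (109, 2, 1), (79, 2, 0), (82, 2, 3), (84, 2, 0), (58, 2, 2), (122, 2, 6), (56, 2, 1),
    (113, 2, 1), (105, 2, 4), (49, 2, 4), (108, 2, 0), (109, 2, 0), (117, 2, 6), (55, 3, 9), (81, 3, 5),
    (29, 3, 5), (122, 3, 7), (92, 3, 10), (52, 3, 11), (59, 3, 4), (124, 3, 9), (51, 3, 10), (64, 3, 11),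
    (88, 3, 6), (80, 3, 7), (77, 3, 10), (53, 3, 1), (73, 3, 5), (61, 3, 2), (119, 3, 6), (74, 3, 6), (124, 3, 2),
    (117, 3, 11), (55, 3, 1), (96, 3, 1), (74, 3, 0), (78, 3, 0), (95, 3, 4), (93, 3, 10), (65, 3, 2), (116, 3, 1),
    (101, 3, 1), (71, 3, 3), (64, 3, 1), (99, 3, 2), (120, 3, 5), (115, 3, 1), (86, 3, 4), (123, 3, 9), (90, 3, 3),
    (118, 3, 2), (100, 3, 11), (97, 1, 3), (115, 1, 3), (120, 1, 3), (111, 1, 2), (80, 1, 0), (94, 2, 5),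
    (121, 2, 5), (91, 2, 0), (114, 2, 3)]

/-- The table of level 3. -/
def tab3 : Tab where
  n := 126
  j := 3
  act := [
    [0, 0, 0, 0, 1, 1], [1, 1, 3, 2, 0, 0], [7, 6, 1, 5, 4, 4], [9, 8, 4, 1, 5, 5], [6, 9, 5, 3, 2, 2],
    [8, 7, 2, 4, 3, 3], [2, 4, 11, 10, 8, 8], [5, 2, 13, 12, 7, 7], [3, 5, 15, 14, 6, 6], [4, 3, 17, 16, 9, 9],
    [21, 20, 6, 19, 18, 18], [24, 18, 23, 6, 22, 22], [28, 27, 7, 26, 25, 25], [32, 31, 30, 7, 29, 29],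
    [35, 34, 8, 33, 20, 20], [37, 22, 36, 8, 34, 34], [41, 40, 9, 39, 38, 38], [45, 44, 43, 9, 42, 42],
    [11, 39, 47, 46, 10, 10], [31, 41, 10, 23, 48, 48], [10, 43, 50, 49, 14, 14], [26, 10, 52, 51, 30, 30],
    [15, 26, 54, 53, 11, 11], [27, 45, 19, 11, 55, 55], [30, 11, 48, 56, 43, 43], [59, 58, 57, 54, 12, 12],
    [22, 21, 12, 30, 35, 35], [12, 23, 62, 61, 60, 60], [33, 12, 65, 64, 63, 63], [68, 67, 46, 66, 13, 13],
    [34, 24, 26, 13, 21, 21], [13, 19, 71, 70, 69, 69], [36, 13, 74, 73, 72, 72], [44, 28, 14, 36, 52, 52],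
    [14, 30, 76, 75, 15, 15], [39, 14, 78, 77, 26, 26], [40, 32, 33, 15, 77, 77], [43, 15, 79, 55, 39, 39],
    [69, 72, 80, 76, 16, 16], [18, 35, 16, 43, 37, 37], [16, 36, 82, 81, 68, 68], [19, 16, 84, 83, 67, 67],
    [60, 63, 49, 85, 17, 17], [20, 37, 39, 17, 24, 24], [17, 33, 87, 86, 59, 59], [23, 17, 89, 88, 58, 58],
    [91, 47, 18, 29, 90, 90], [46, 92, 66, 18, 50, 50], [72, 68, 91, 24, 19, 19], [93, 53, 20, 42, 92, 92],
    [54, 94, 85, 20, 47, 47], [70, 95, 21, 94, 79, 79], [58, 60, 96, 21, 33, 33], [49, 90, 22, 57, 75, 75],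
    [96, 50, 25, 22, 97, 97], [63, 59, 37, 93, 23, 23], [87, 98, 24, 97, 78, 78], [99, 70, 53, 25, 57, 57],
    [25, 52, 69, 63, 45, 45], [55, 25, 72, 100, 44, 44], [52, 42, 100, 67, 27, 27], [66, 78, 27, 102, 101, 101],
    [106, 105, 104, 27, 103, 103], [42, 55, 58, 68, 28, 28], [108, 74, 28, 98, 107, 107],
    [84, 103, 110, 28, 109, 109], [98, 61, 29, 47, 66, 66], [29, 77, 60, 72, 41, 41], [48, 29, 63, 111, 40, 40],
    [77, 38, 111, 58, 31, 31], [57, 51, 31, 112, 95, 95], [116, 115, 114, 31, 113, 113], [38, 48, 67, 59, 32, 32],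
    [102, 88, 32, 99, 110, 110], [64, 104, 107, 32, 115, 115], [76, 97, 34, 80, 53, 53], [117, 75, 38, 34, 94, 94],
    [67, 69, 35, 117, 36, 36], [61, 101, 92, 35, 56, 56], [82, 99, 90, 37, 51, 51], [101, 87, 75, 38, 80, 80],
    [119, 118, 40, 103, 104, 104], [85, 79, 108, 40, 99, 99], [89, 113, 41, 120, 118, 118],
    [122, 65, 95, 41, 121, 121], [95, 82, 42, 50, 85, 85], [123, 109, 44, 113, 114, 114],
    [80, 56, 122, 44, 98, 98], [73, 114, 45, 121, 105, 105], [112, 83, 101, 45, 120, 120],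
    [53, 96, 93, 79, 46, 46], [97, 46, 97, 48, 93, 93], [47, 117, 117, 78, 49, 49], [94, 49, 55, 90, 91, 91],
    [50, 93, 51, 96, 76, 76], [51, 85, 120, 84, 70, 70], [90, 54, 94, 52, 117, 117], [75, 91, 56, 91, 54, 54],
    [56, 66, 64, 110, 87, 87], [79, 57, 73, 107, 82, 82], [124, 125, 59, 60, 124, 124], [78, 80, 121, 89, 61, 61],
    [103, 73, 61, 104, 123, 123], [65, 102, 81, 108, 62, 62], [74, 112, 102, 62, 81, 81],
    [62, 121, 109, 116, 88, 88], [110, 62, 125, 115, 122, 122], [118, 116, 99, 74, 64, 64],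
    [113, 64, 103, 82, 119, 119], [86, 110, 119, 105, 65, 65], [109, 106, 98, 65, 73, 73],
    [125, 124, 68, 69, 125, 125], [104, 89, 70, 114, 116, 116], [83, 108, 86, 122, 71, 71],
    [88, 122, 112, 71, 86, 86], [71, 120, 106, 118, 74, 74], [107, 71, 105, 124, 112, 112],
    [92, 76, 77, 92, 96, 96], [81, 107, 115, 123, 83, 83], [120, 81, 124, 109, 108, 108],
    [115, 119, 83, 95, 89, 89], [105, 123, 88, 101, 84, 84], [114, 84, 113, 87, 106, 106],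
    [121, 86, 118, 125, 102, 102], [111, 100, 116, 119, 100, 100], [100, 111, 123, 106, 111, 111]]
  tree := [
    (0, 5), (1, 3), (1, 2), (2, 5), (2, 3), (2, 1), (2, 0), (3, 1), (3, 0), (6, 3), (6, 2), (7, 3), (7, 2), (8, 3),
    (8, 2), (9, 3), (9, 2), (10, 5), (10, 3), (10, 1), (10, 0), (11, 5), (11, 2), (11, 0), (12, 5), (12, 3),
    (12, 1), (12, 0), (13, 5), (13, 2), (13, 1), (13, 0), (14, 3), (14, 1), (14, 0), (15, 2), (15, 0), (16, 5),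
    (16, 3), (16, 1), (16, 0), (17, 5), (17, 2), (17, 1), (17, 0), (18, 3), (18, 2), (19, 5), (20, 3), (20, 2),
    (21, 3), (21, 2), (22, 3), (22, 2), (23, 5), (24, 3), (25, 2), (25, 1), (25, 0), (27, 5), (27, 3), (27, 2),
    (28, 5), (28, 3), (28, 2), (29, 3), (29, 1), (29, 0), (31, 5), (31, 3), (31, 2), (32, 5), (32, 3), (32, 2),
    (34, 3), (34, 2), (35, 3), (35, 2), (37, 2), (38, 2), (40, 3), (40, 2), (41, 3), (41, 2), (42, 3), (44, 3),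
    (44, 2), (45, 3), (45, 2), (46, 5), (46, 0), (47, 1), (49, 0), (50, 1), (51, 1), (52, 2), (54, 5), (56, 1),
    (57, 0), (59, 3), (61, 5), (61, 3), (62, 5), (62, 2), (62, 1), (62, 0), (64, 5), (64, 0), (65, 5), (65, 2),
    (68, 3), (70, 3), (71, 5), (71, 2), (71, 1), (71, 0), (76, 0), (81, 1), (81, 0), (83, 3), (84, 5), (84, 0),
    (86, 0), (100, 5), (100, 1)]
  deds := [
    (19, 1, 3), (26, 1, 3), (33, 1, 3), (39, 1, 3), (102, 1, 3), (112, 1, 3), (19, 2, 5), (33, 2, 5), (24, 2, 4),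
    (27, 2, 1), (37, 2, 4), (40, 2, 1), (1, 4, 1), (4, 4, 1), (18, 4, 1), (22, 4, 1), (25, 4, 1), (29, 4, 1),
    (38, 4, 1), (42, 4, 1), (48, 4, 1), (55, 4, 1), (60, 4, 1), (63, 4, 1), (69, 4, 1), (72, 4, 1), (90, 4, 1),
    (97, 4, 1), (101, 4, 1), (103, 4, 1), (107, 4, 1), (109, 4, 1), (113, 4, 1), (121, 4, 1), (124, 4, 1),
    (1, 5, 7), (4, 6, 5), (5, 6, 3), (6, 6, 0), (8, 6, 0), (5, 1, 3), (5, 2, 5), (6, 2, 1), (9, 2, 4), (26, 2, 2),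
    (39, 2, 2), (20, 2, 1), (83, 3, 7), (64, 3, 5), (56, 3, 9), (61, 3, 3), (118, 3, 2), (3, 4, 0), (5, 5, 4),
    (7, 5, 0), (9, 5, 0), (46, 6, 4), (25, 6, 5), (34, 7, 9), (34, 7, 0), (66, 1, 2), (53, 1, 4), (19, 2, 2),
    (23, 2, 2), (34, 2, 1), (120, 2, 5), (74, 2, 1), (73, 3, 9), (106, 3, 10), (118, 3, 0), (30, 5, 6), (38, 5, 7),
    (42, 5, 7), (18, 5, 5), (40, 5, 0), (44, 5, 0), (38, 6, 5), (37, 6, 7), (75, 1, 4), (18, 2, 4), (33, 2, 2),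
    (36, 2, 2), (64, 2, 6), (112, 2, 5), (98, 2, 1), (75, 3, 9), (65, 3, 11), (117, 3, 10), (46, 3, 3), (70, 3, 1),
    (78, 3, 0), (73, 3, 1), (88, 3, 1), (106, 3, 11), (98, 3, 4), (21, 4, 0), (68, 4, 1), (59, 4, 1), (58, 5, 6),
    (67, 5, 6), (20, 5, 6), (48, 5, 7), (15, 5, 1), (55, 5, 7), (60, 5, 7), (63, 5, 7), (69, 5, 7), (72, 5, 7),
    (35, 5, 0), (37, 5, 0), (39, 5, 0), (33, 6, 3), (48, 6, 2), (51, 6, 3), (77, 6, 6), (75, 6, 6), (56, 6, 6),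
    (60, 6, 8), (90, 6, 5), (24, 6, 6), (57, 6, 3), (80, 6, 3), (63, 7, 5), (20, 7, 0), (77, 1, 4), (26, 2, 5),
    (49, 2, 6), (99, 2, 4), (91, 2, 3), (117, 2, 5), (77, 2, 2), (87, 2, 4), (66, 2, 1), (67, 2, 1), (112, 2, 1),
    (95, 2, 0), (122, 2, 3), (114, 2, 1), (67, 3, 6), (73, 3, 8), (105, 3, 4), (50, 3, 11), (79, 3, 11),
    (72, 3, 6), (69, 3, 8), (49, 3, 1), (58, 3, 2), (60, 3, 8), (125, 3, 2), (57, 3, 1), (54, 3, 7), (53, 3, 3),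
    (100, 3, 10), (43, 4, 1), (26, 4, 0), (52, 4, 1), (36, 4, 0), (41, 4, 0), (45, 4, 0), (79, 4, 1), (53, 4, 0),
    (78, 4, 1), (58, 5, 3), (99, 5, 6), (101, 5, 7), (66, 5, 0), (98, 5, 6), (95, 5, 0), (78, 5, 5), (88, 6, 4),
    (120, 6, 3), (86, 6, 4), (81, 6, 4), (49, 6, 6), (107, 6, 5), (56, 6, 4), (73, 6, 6), (117, 6, 6), (47, 6, 3),
    (97, 6, 5), (70, 6, 6), (55, 6, 2), (50, 6, 0), (111, 6, 4), (86, 6, 6), (101, 6, 5), (92, 6, 3), (109, 6, 8),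
    (93, 6, 4), (93, 6, 3), (74, 6, 0), (76, 6, 0), (81, 6, 6), (124, 6, 2), (83, 6, 0), (87, 6, 0), (88, 6, 0),
    (75, 6, 1), (105, 6, 0), (115, 6, 0), (118, 6, 0), (111, 7, 7), (83, 7, 7), (106, 7, 6), (65, 7, 4),
    (125, 7, 9), (94, 7, 11), (118, 7, 10), (73, 7, 0), (76, 7, 0), (86, 7, 0), (99, 7, 0), (106, 7, 0),
    (125, 7, 0), (85, 1, 2), (51, 1, 4), (99, 1, 3), (120, 1, 3), (113, 1, 3), (121, 1, 3), (123, 1, 2),
    (102, 2, 5), (93, 2, 5), (121, 2, 5), (97, 2, 2), (85, 2, 5), (96, 2, 5), (111, 2, 5), (108, 2, 4),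
    (107, 2, 2), (100, 2, 5), (103, 2, 3), (85, 2, 2), (120, 2, 2), (121, 2, 2), (108, 2, 3), (116, 2, 6),
    (109, 2, 0), (109, 2, 1), (119, 2, 0), (104, 4, 1), (89, 4, 0), (91, 4, 0), (96, 4, 0), (102, 5, 6),
    (116, 5, 6), (85, 5, 6), (108, 5, 6), (112, 5, 6), (123, 5, 6), (119, 5, 6)]

/-- Test vectors separating the cosets of level 3. -/
def vecs3 : List (List ℕ) := [
  [9, 3, 8],
  [12, 16, 4],
  [9, 9, 15],
  [10, 24, 6],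
  [17, 14, 1],
  [8, 9, 6],
  [2, 19, 20],
  [19, 20, 2],
  [6, 20, 16],
  [11, 20, 3],
  [0, 20, 7],
  [17, 5, 1],
  [16, 14, 2],
  [5, 18, 17],
  [12, 13, 11],
  [13, 22, 23],
  [6, 3, 22],
  [12, 12, 14],
  [4, 23, 23],
  [14, 24, 11],
  [22, 24, 6],
  [19, 21, 5],
  [3, 0, 18],
  [15, 13, 15],
  [4, 19, 4],
  [20, 5, 6],
  [22, 0, 20],
  [24, 8, 3],
  [12, 17, 11],
  [10, 22, 18],
  [21, 9, 8],
  [0, 16, 15],
  [10, 17, 7],
  [20, 21, 5],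
  [4, 9, 0],
  [9, 21, 8],
  [20, 21, 19],
  [10, 22, 17],
  [6, 19, 16],
  [6, 22, 21],
  [15, 4, 23],
  [14, 18, 4],
  [19, 14, 6],
  [11, 14, 24],
  [13, 10, 23],
  [5, 13, 18],
  [20, 1, 1],
  [24, 18, 0],
  [20, 21, 11],
  [9, 15, 3],
  [3, 20, 16],
  [16, 17, 1],
  [19, 0, 8],
  [0, 20, 23],
  [23, 15, 17],
  [13, 16, 1],
  [11, 19, 24],
  [1, 23, 15],
  [7, 17, 23],
  [12, 4, 16],
  [12, 11, 1],
  [22, 6, 24],
  [3, 14, 5],
  [19, 3, 19],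
  [16, 17, 13],
  [18, 5, 12],
  [9, 11, 11],
  [18, 13, 16],
  [20, 17, 4],
  [5, 5, 3],
  [18, 16, 4],
  [22, 9, 21],
  [14, 12, 13],
  [2, 9, 15],
  [5, 1, 13],
  [8, 8, 12],
  [22, 15, 12],
  [16, 5, 6],
  [8, 18, 7],
  [10, 14, 0],
  [17, 20, 17],
  [8, 0, 14],
  [11, 21, 19],
  [19, 2, 16],
  [19, 24, 14],
  [22, 6, 2],
  [0, 9, 17],
  [12, 18, 19],
  [11, 16, 6],
  [4, 20, 1],
  [6, 6, 8],
  [5, 12, 4],
  [16, 21, 5],
  [6, 1, 0],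
  [17, 4, 11],
  [21, 2, 7],
  [18, 1, 19],
  [0, 3, 1],
  [2, 24, 22],
  [12, 16, 17],
  [14, 6, 5],
  [3, 6, 22],
  [22, 20, 0],
  [11, 0, 8],
  [3, 0, 13],
  [15, 24, 24],
  [20, 13, 13],
  [2, 11, 14],
  [20, 1, 12],
  [5, 2, 5],
  [10, 22, 4],
  [2, 20, 5],
  [15, 1, 22],
  [19, 24, 20],
  [15, 21, 24],
  [15, 6, 9],
  [2, 24, 15],
  [16, 21, 11],
  [17, 19, 17],
  [20, 1, 18],
  [19, 19, 24],
  [0, 12, 3],
  [6, 22, 24],
  [21, 13, 0],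
  [8, 6, 9]]

end CfsgLib.SUPres.Base.SU35
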