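import Cfsg.Agent.Lib.SUPres.Base.Cert

/-! Generators, relators and coset tables of a certified presentation of a special unitary group. -/

set_option autoImplicit false

namespace CfsgLib.SUPres.Base.SU42

/-- The generators. -/
def gens : List (List ℕ) := [
  [2, 3, 0, 1, 1, 0, 2, 3, 0, 3, 3, 1, 1, 2, 2, 0],
  [0, 2, 3, 1, 3, 1, 2, 0, 2, 3, 0, 2, 1, 0, 3, 1],
  [1, 0, 2, 2, 0, 1, 2, 2, 3, 3, 1, 0, 3, 3, 0, 1],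
  [3, 1, 1, 0, 0, 3, 3, 1, 1, 0, 2, 3, 3, 1, 0, 2]]

/-- The relators. -/
def rels : List (List ℕ) := [
  [0, 0, 0, 0, 0],
  [2, 2],
  [0, 2, 0, 2, 0, 2],
  [4, 4],
  [0, 2, 0, 4, 2, 0, 4, 2, 5],
  [0, 0, 2, 1, 4, 0, 2, 1, 1, 4],
  [0, 0, 6, 0, 0, 7, 2],
  [0, 0, 2, 1, 1, 2, 6, 6],
  [0, 4, 0, 7, 4, 1, 6, 4, 7]]

/-- A basis adapted to the parabolic subgroup. -/
def basisB : List ℕ := [1, 0, 2, 0, 1, 0, 3, 0, 0, 1, 0, 2, 0, 1, 0, 3]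

/-- Its inverse. -/
def basisBi : List ℕ := [3, 2, 0, 0, 0, 0, 3, 2, 1, 1, 0, 0, 0, 0, 1, 1]

/-- The table of level 2. -/
def tab2 : Tab where
  n := 12
  j := 2
  act := [
    [0, 0, 1, 1], [3, 2, 0, 0], [1, 4, 3, 3], [5, 1, 2, 2], [2, 5, 6, 6], [4, 3, 7, 7], [8, 7, 4, 4], [6, 9, 5, 5],
    [10, 6, 9, 9], [7, 10, 8, 8], [9, 8, 11, 11], [11, 11, 10, 10]]
  tree := [
    (0, 3), (1, 1), (1, 0), (2, 1), (3, 0), (4, 3), (5, 3), (6, 0), (7, 1), (8, 0), (10, 3)]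
  deds := [
    (4, 0, 3), (1, 1, 1), (6, 1, 1), (7, 1, 1), (11, 1, 1), (2, 2, 4), (9, 2, 4), (3, 1, 1), (8, 1, 0), (6, 2, 3),
    (9, 0, 3), (11, 2, 3)]

/-- The table of level 3. -/
def tab3 : Tab where
  n := 16
  j := 3
  act := [
    [0, 0, 0, 0, 1, 1], [4, 3, 2, 2, 0, 0], [5, 6, 1, 1, 5, 5], [1, 9, 8, 8, 7, 7], [11, 1, 11, 11, 10, 10],
    [8, 2, 5, 5, 2, 2], [2, 12, 9, 9, 11, 11], [10, 13, 10, 10, 3, 3], [12, 5, 3, 3, 9, 9], [3, 11, 6, 6, 8, 8],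
    [14, 7, 7, 7, 4, 4], [9, 4, 4, 4, 6, 6], [6, 8, 12, 12, 15, 15], [7, 15, 15, 15, 14, 14],
    [15, 10, 14, 14, 13, 13], [13, 14, 13, 13, 12, 12]]
  tree := [
    (0, 5), (1, 3), (1, 1), (1, 0), (2, 5), (2, 1), (3, 5), (3, 3), (3, 1), (4, 5), (4, 3), (6, 1), (7, 1),
    (10, 0), (12, 5)]
  deds := [
    (2, 1, 1), (8, 1, 1), (11, 1, 1), (1, 3, 1), (5, 3, 1), (7, 3, 1), (10, 3, 1), (15, 3, 1), (5, 4, 6),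
    (7, 4, 8), (8, 4, 1), (4, 5, 8), (9, 0, 3), (12, 0, 3), (10, 1, 1), (6, 2, 4), (5, 2, 2), (8, 4, 4), (9, 4, 4),
    (13, 4, 5), (11, 4, 0), (12, 5, 7), (9, 5, 3), (11, 5, 5), (15, 1, 1), (10, 4, 6), (13, 4, 7), (15, 4, 1),
    (14, 5, 7), (13, 5, 6), (14, 5, 5)]

/-- The table of level 4. -/
def tab4 : Tab where
  n := 27
  j := 4
  act := [
    [0, 0, 0, 0, 0, 0, 1, 1], [1, 1, 1, 1, 2, 2, 0, 0], [4, 3, 5, 5, 1, 1, 4, 3], [2, 8, 6, 6, 7, 7, 2, 6],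
    [9, 2, 9, 9, 10, 10, 9, 2], [11, 12, 2, 2, 11, 11, 6, 9], [13, 11, 3, 3, 8, 8, 3, 5],
    [10, 16, 10, 10, 3, 3, 15, 14], [3, 9, 12, 12, 6, 6, 13, 12], [8, 4, 4, 4, 12, 12, 5, 4],
    [18, 7, 7, 7, 4, 4, 14, 17], [6, 5, 11, 11, 5, 5, 11, 11], [5, 13, 8, 8, 9, 9, 8, 13],
    [12, 6, 13, 13, 19, 19, 12, 8], [21, 15, 14, 14, 20, 20, 7, 10], [14, 17, 17, 17, 15, 15, 18, 7],
    [7, 19, 19, 19, 18, 18, 21, 21], [15, 22, 15, 15, 17, 17, 10, 18], [19, 10, 18, 18, 16, 16, 17, 15],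
    [16, 18, 16, 16, 13, 13, 22, 22], [25, 23, 20, 20, 14, 14, 24, 23], [22, 14, 22, 22, 21, 21, 16, 16],
    [17, 21, 21, 21, 26, 26, 19, 19], [20, 24, 24, 24, 23, 23, 20, 24], [23, 26, 23, 23, 24, 24, 23, 20],
    [26, 20, 26, 26, 25, 25, 26, 26], [24, 25, 25, 25, 22, 22, 25, 25]]
  tree := [
    (0, 7), (1, 5), (2, 7), (2, 6), (2, 3), (3, 7), (3, 5), (3, 1), (4, 6), (4, 5), (5, 5), (5, 1), (6, 0), (7, 7),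
    (7, 6), (7, 1), (10, 7), (10, 0), (13, 5), (14, 5), (14, 0), (17, 1), (20, 7), (20, 6), (20, 0), (22, 5)]
  deds := [
    (5, 1, 1), (2, 3, 1), (7, 3, 1), (10, 3, 1), (11, 3, 1), (19, 3, 1), (20, 3, 1), (26, 3, 1), (1, 7, 7),
    (3, 8, 6), (1, 8, 3), (1, 6, 0), (4, 8, 3), (11, 4, 6), (7, 4, 8), (6, 6, 2), (12, 0, 4), (10, 1, 1),
    (3, 4, 2), (8, 6, 4), (6, 7, 3), (9, 0, 2), (11, 2, 4), (9, 5, 7), (4, 5, 3), (9, 5, 0), (12, 5, 0), (8, 6, 3),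
    (8, 6, 0), (6, 7, 7), (12, 7, 3), (5, 7, 0), (13, 7, 0), (12, 8, 7), (8, 8, 8), (13, 2, 2), (6, 3, 0),
    (16, 4, 5), (10, 4, 6), (18, 5, 7), (19, 5, 9), (11, 6, 6), (14, 7, 7), (15, 8, 8), (19, 0, 3), (19, 1, 1),
    (16, 4, 7), (18, 4, 4), (17, 7, 7), (18, 7, 0), (17, 8, 6), (23, 8, 6), (14, 8, 3), (17, 8, 8), (22, 8, 0),
    (16, 8, 4), (22, 0, 2), (22, 6, 3), (14, 6, 0), (17, 6, 0), (21, 6, 0), (22, 7, 3), (16, 7, 0), (15, 7, 6),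
    (21, 8, 5), (26, 8, 4), (24, 8, 3), (20, 4, 8), (23, 4, 2), (24, 5, 8), (24, 5, 3), (26, 0, 2), (26, 2, 2),
    (24, 4, 4), (25, 4, 5), (25, 4, 7), (23, 4, 0), (23, 6, 3), (25, 6, 6)]

/-- Test vectors separating the cosets of level 3. -/
def vecs3 : List (List ℕ) := [
  [3, 2, 2, 1],
  [0, 1, 1, 0],
  [3, 3, 3, 2],
  [1, 0, 0, 3],
  [2, 3, 1, 3],
  [3, 1, 3, 2],
  [2, 3, 2, 3],
  [2, 1, 3, 3],
  [0, 1, 0, 2],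
  [3, 2, 1, 2],
  [2, 2, 3, 2]]

/-- Test vectors separating the cosets of level 4. -/
def vecs4 : List (List ℕ) := [
  [3, 2, 2, 1],
  [0, 1, 1, 0],
  [3, 3, 3, 2],
  [0, 1, 0, 3],
  [1, 0, 0, 3],
  [3, 1, 3, 2],
  [2, 3, 1, 3],
  [3, 2, 2, 2],
  [2, 3, 2, 3],
  [1, 1, 1, 1],
  [3, 3, 2, 1],
  [2, 2, 0, 0],
  [0, 1, 0, 2],
  [2, 3, 1, 1],
  [3, 2, 1, 2],
  [2, 2, 3, 2]]

end CfsgLib.SUPres.Base.SU42
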