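import Cfsg.Agent.Lib.SUPres.Base.Cert

/-! Generators, relators and coset tables of a certified presentation of a special unitary group. -/

set_option autoImplicit false

namespace CfsgLib.SUPres.Base.SU43

/-- The generators. -/
def gens : List (List ℕ) := [
  [8, 2, 6, 0, 3, 8, 0, 6, 3, 0, 7, 3, 0, 3, 1, 7],
  [1, 0, 2, 5, 0, 1, 4, 2, 1, 5, 1, 0, 4, 1, 0, 1],
  [7, 8, 1, 7, 7, 4, 4, 2, 2, 5, 1, 0, 8, 1, 0, 1],
  [3, 4, 0, 3, 5, 6, 2, 0, 0, 1, 3, 8, 3, 0, 7, 6]]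

/-- The relators. -/
def rels : List (List ℕ) := [
  [0, 0, 0, 0, 0, 0, 0, 0, 0, 0, 0, 0, 0, 0, 0, 0, 0, 0, 0, 0],
  [2, 2, 2],
  [0, 0, 3, 0, 3, 0, 2, 0, 2, 1, 3],
  [0, 0, 3, 1, 2, 0, 2, 0, 3, 0, 3],
  [0, 0, 0, 0, 0, 2, 1, 1, 1, 1, 1, 3],
  [0, 0, 0, 2, 0, 0, 2, 0, 2, 0, 3, 1, 2],
  [4, 4, 4],
  [0, 4, 1, 3, 5, 2, 4],
  [0, 4, 1, 4, 3, 5, 2],
  [0, 2, 4, 3, 1, 2, 5, 3, 4],
  [0, 0, 0, 2, 4, 3, 4, 1, 1, 4, 1, 5],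
  [0, 6, 0, 7, 2],
  [0, 6, 2, 0, 7],
  [0, 2, 6, 3, 6, 2, 1, 3],
  [4, 6, 4, 6, 4, 6, 4, 6, 4, 7],
  [0, 4, 3, 6, 0, 4, 3, 6, 0, 4, 3, 6]]

/-- A basis adapted to the parabolic subgroup. -/
def basisB : List ℕ := [1, 0, 2, 0, 4, 0, 4, 0, 0, 1, 0, 2, 0, 4, 0, 4]

/-- Its inverse. -/
def basisBi : List ℕ := [2, 7, 0, 0, 0, 0, 2, 7, 1, 7, 0, 0, 0, 0, 1, 7]

/-- The table of level 2. -/
def tab2 : Tab where
  n := 72
  j := 2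
  act := [
    [0, 0, 1, 2], [3, 4, 2, 0], [5, 6, 0, 1], [7, 1, 8, 9], [1, 10, 11, 12], [13, 2, 14, 15], [2, 16, 17, 18],
    [10, 3, 16, 19], [20, 21, 9, 3], [22, 12, 3, 8], [4, 7, 23, 24], [25, 15, 12, 4], [9, 26, 4, 11],
    [16, 5, 27, 28], [29, 17, 15, 5], [11, 30, 5, 14], [6, 13, 19, 7], [14, 31, 18, 6], [32, 33, 6, 17],
    [34, 35, 7, 16], [36, 8, 33, 37], [8, 38, 39, 30], [40, 9, 41, 31], [42, 37, 24, 10], [43, 44, 10, 23],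
    [45, 11, 46, 32], [12, 40, 47, 48], [44, 49, 28, 13], [37, 48, 13, 27], [50, 14, 42, 51], [15, 45, 21, 39],
    [17, 50, 22, 41], [52, 18, 25, 46], [18, 53, 37, 20], [54, 19, 55, 56], [19, 57, 58, 59], [38, 20, 40, 60],
    [23, 28, 20, 33], [21, 36, 61, 62], [46, 56, 30, 21], [26, 22, 60, 36], [56, 58, 31, 22], [48, 23, 51, 29],
    [49, 24, 63, 49], [24, 27, 64, 65], [30, 25, 57, 54], [58, 39, 32, 25], [63, 66, 48, 26], [28, 42, 26, 47],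
    [27, 43, 43, 63], [31, 29, 53, 67], [61, 63, 29, 42], [53, 32, 68, 66], [33, 52, 67, 50], [57, 34, 45, 57],
    [68, 64, 56, 34], [39, 41, 34, 55], [35, 54, 54, 45], [41, 46, 59, 35], [65, 62, 35, 58], [69, 65, 36, 40],
    [66, 51, 62, 38], [59, 69, 38, 61], [51, 47, 49, 43], [55, 67, 65, 44], [60, 59, 44, 64], [47, 61, 52, 68],
    [64, 70, 50, 53], [70, 55, 66, 52], [62, 60, 71, 70], [67, 68, 69, 71], [71, 71, 70, 69]]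
  tree := [
    (0, 2), (0, 3), (1, 0), (1, 1), (2, 0), (2, 1), (3, 0), (3, 2), (3, 3), (4, 1), (4, 2), (4, 3), (5, 0), (5, 2),
    (5, 3), (6, 1), (6, 2), (6, 3), (7, 3), (8, 0), (8, 1), (9, 0), (10, 2), (10, 3), (11, 0), (12, 1), (13, 2),
    (13, 3), (14, 0), (15, 1), (17, 1), (18, 0), (18, 1), (19, 0), (19, 1), (20, 0), (20, 3), (21, 1), (21, 2),
    (22, 0), (22, 2), (23, 0), (24, 0), (24, 1), (25, 0), (25, 2), (26, 2), (26, 3), (27, 1), (29, 0), (29, 3),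
    (32, 0), (33, 1), (34, 0), (34, 2), (34, 3), (35, 1), (35, 2), (35, 3), (36, 3), (38, 2), (38, 3), (43, 2),
    (44, 2), (44, 3), (47, 1), (50, 3), (52, 2), (60, 0), (67, 1), (69, 2)]
  deds := [
    (2, 1, 2), (9, 1, 2), (12, 1, 2), (15, 1, 2), (18, 1, 2), (24, 1, 2), (28, 1, 2), (48, 1, 2), (56, 1, 2),
    (59, 1, 2), (62, 1, 2), (65, 1, 2), (42, 2, 9), (66, 2, 3), (48, 3, 4), (23, 3, 10), (61, 3, 10), (7, 4, 9),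
    (13, 4, 9), (36, 4, 9), (53, 4, 3), (57, 4, 3), (48, 5, 6), (28, 5, 12), (51, 1, 2), (66, 1, 2), (33, 2, 5),
    (49, 2, 5), (39, 2, 10), (33, 1, 1), (49, 1, 2), (36, 3, 3), (60, 1, 2), (59, 2, 6), (54, 3, 0), (71, 5, 10),
    (68, 3, 6), (56, 3, 8), (16, 2, 0), (61, 2, 10), (64, 2, 10), (58, 2, 8), (39, 3, 8), (30, 3, 7), (9, 3, 6),
    (64, 3, 1), (40, 4, 9), (58, 4, 9), (68, 4, 10), (57, 5, 7), (16, 5, 4), (44, 5, 8), (63, 5, 10), (62, 5, 6),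
    (11, 5, 1), (53, 5, 7), (14, 5, 1), (67, 5, 4), (65, 5, 8), (21, 5, 0), (22, 5, 0), (51, 5, 5), (31, 5, 0),
    (32, 5, 0), (31, 5, 8), (30, 5, 10), (25, 5, 7), (60, 5, 10), (49, 5, 1), (57, 5, 11), (69, 5, 7), (70, 5, 7)]

/-- The table of level 3. -/
def tab3 : Tab where
  n := 81
  j := 3
  act := [
    [0, 0, 0, 0, 1, 2], [3, 4, 5, 6, 2, 0], [7, 8, 9, 10, 0, 1], [11, 1, 3, 3, 12, 13], [1, 14, 15, 16, 5, 17],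
    [12, 18, 6, 1, 17, 4], [19, 20, 1, 5, 21, 20], [22, 2, 7, 7, 23, 24], [2, 25, 26, 20, 27, 9],
    [24, 28, 10, 2, 8, 27], [29, 16, 2, 9, 16, 30], [14, 3, 11, 11, 31, 32], [33, 5, 34, 19, 13, 3],
    [35, 27, 36, 37, 3, 12], [4, 11, 38, 18, 39, 40], [20, 41, 16, 4, 42, 43], [10, 26, 4, 15, 30, 10],
    [23, 37, 44, 21, 4, 5], [5, 45, 14, 38, 46, 47], [41, 6, 12, 34, 48, 49], [6, 15, 8, 26, 6, 21],
    [50, 35, 17, 44, 20, 6], [25, 7, 22, 22, 51, 52], [53, 17, 54, 50, 24, 7], [46, 9, 45, 29, 7, 23],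
    [8, 22, 41, 28, 55, 56], [16, 38, 20, 8, 57, 58], [13, 50, 59, 30, 9, 8], [9, 34, 25, 41, 60, 33],
    [38, 10, 24, 45, 61, 62], [37, 53, 27, 59, 10, 16], [63, 64, 65, 40, 32, 11], [58, 66, 48, 67, 11, 31],
    [45, 12, 33, 33, 28, 60], [28, 46, 19, 12, 67, 64], [21, 13, 35, 35, 68, 44], [44, 60, 37, 13, 66, 69],
    [17, 30, 13, 36, 70, 71], [26, 29, 18, 14, 72, 65], [64, 72, 49, 66, 40, 14], [73, 49, 31, 65, 14, 39],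
    [15, 19, 28, 25, 63, 74], [49, 51, 57, 68, 43, 15], [75, 62, 76, 58, 15, 42], [77, 36, 21, 17, 35, 68],
    [18, 33, 29, 24, 78, 79], [34, 24, 46, 46, 47, 18], [54, 80, 71, 69, 18, 46], [57, 68, 67, 32, 49, 19],
    [40, 42, 66, 39, 19, 48], [27, 21, 23, 54, 77, 75], [42, 73, 62, 79, 52, 22], [65, 78, 63, 55, 22, 51],
    [30, 23, 53, 53, 59, 76], [59, 47, 50, 23, 80, 73], [66, 61, 52, 63, 56, 25], [78, 74, 61, 73, 25, 55],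
    [70, 48, 68, 42, 58, 26], [61, 32, 43, 76, 26, 57], [71, 54, 30, 27, 76, 53], [36, 69, 77, 80, 33, 28],
    [55, 58, 73, 56, 62, 29], [43, 76, 79, 51, 29, 61], [72, 31, 55, 52, 74, 41], [31, 39, 72, 70, 34, 67],
    [74, 52, 40, 31, 38, 72], [32, 55, 39, 49, 69, 36], [68, 70, 32, 48, 64, 34], [48, 67, 42, 57, 44, 35],
    [60, 77, 47, 71, 36, 66], [67, 57, 64, 72, 71, 37], [80, 59, 69, 47, 37, 70], [39, 63, 70, 64, 65, 38],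
    [51, 40, 56, 61, 54, 80], [56, 65, 75, 78, 41, 63], [79, 43, 78, 74, 50, 77], [62, 79, 58, 43, 53, 59],
    [69, 44, 80, 60, 75, 50], [52, 56, 74, 75, 79, 45], [76, 75, 51, 62, 45, 78], [47, 71, 60, 77, 73, 54]]
  tree := [
    (0, 4), (0, 5), (1, 0), (1, 1), (1, 2), (1, 3), (2, 0), (2, 1), (2, 2), (2, 3), (3, 0), (3, 4), (3, 5), (4, 1),
    (4, 2), (4, 3), (4, 5), (5, 1), (6, 0), (6, 1), (6, 4), (7, 0), (7, 4), (7, 5), (8, 1), (8, 2), (8, 4), (9, 1),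
    (10, 0), (10, 5), (11, 4), (11, 5), (12, 0), (12, 2), (13, 0), (13, 2), (13, 3), (14, 2), (14, 4), (14, 5),
    (15, 1), (15, 4), (15, 5), (17, 2), (18, 1), (18, 4), (18, 5), (19, 4), (19, 5), (21, 0), (22, 4), (22, 5),
    (23, 0), (23, 2), (25, 4), (25, 5), (26, 4), (26, 5), (27, 2), (28, 4), (29, 4), (29, 5), (31, 0), (31, 1),
    (31, 2), (32, 1), (32, 3), (35, 4), (36, 5), (37, 4), (37, 5), (38, 4), (40, 0), (41, 5), (43, 0), (43, 2),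
    (44, 0), (45, 4), (45, 5), (47, 1)]
  deds := [
    (6, 1, 2), (10, 1, 2), (16, 1, 2), (37, 1, 2), (2, 6, 2), (13, 6, 2), (24, 6, 2), (32, 6, 2), (40, 6, 2),
    (43, 6, 2), (47, 6, 2), (49, 6, 2), (52, 6, 2), (56, 6, 2), (58, 6, 2), (62, 6, 2), (71, 6, 2), (79, 6, 2),
    (10, 7, 5), (5, 7, 3), (70, 7, 4), (8, 7, 0), (5, 8, 4), (17, 8, 3), (24, 8, 1), (58, 8, 3), (75, 8, 2),
    (62, 8, 1), (8, 9, 6), (15, 9, 5), (10, 9, 1), (35, 10, 8), (20, 1, 2), (45, 3, 0), (17, 6, 2), (9, 6, 2),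
    (30, 6, 2), (21, 7, 4), (21, 7, 5), (27, 7, 6), (26, 7, 3), (77, 7, 2), (35, 7, 0), (49, 7, 1), (57, 7, 6),
    (76, 7, 0), (27, 8, 3), (20, 8, 6), (57, 8, 5), (35, 9, 6), (58, 9, 8), (44, 9, 8), (30, 10, 3), (30, 1, 2),
    (42, 1, 0), (58, 1, 2), (41, 2, 0), (14, 3, 5), (25, 3, 5), (50, 5, 11), (44, 6, 2), (50, 6, 0), (68, 7, 3),
    (53, 7, 0), (46, 8, 5), (59, 8, 4), (53, 8, 0), (7, 9, 2), (24, 9, 2), (50, 9, 5), (32, 10, 9), (19, 10, 9),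
    (18, 1, 2), (50, 1, 2), (45, 1, 1), (41, 1, 1), (3, 2, 9), (38, 2, 2), (19, 2, 5), (26, 2, 6), (33, 2, 9),
    (17, 2, 4), (14, 3, 2), (28, 3, 8), (11, 3, 5), (37, 3, 1), (34, 3, 0), (59, 3, 8), (44, 3, 8), (33, 4, 9),
    (25, 4, 4), (22, 5, 11), (28, 7, 2), (47, 7, 6), (57, 7, 3), (31, 7, 6), (69, 7, 6), (71, 7, 6), (75, 7, 6),
    (59, 7, 3), (66, 7, 0), (52, 7, 1), (80, 7, 0), (34, 8, 4), (72, 8, 5), (77, 8, 5), (60, 8, 5), (56, 8, 3),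
    (69, 8, 3), (66, 8, 5), (24, 8, 3), (80, 8, 5), (79, 8, 3), (69, 8, 4), (66, 8, 0), (33, 8, 2), (79, 8, 1),
    (78, 8, 0), (79, 8, 0), (49, 9, 5), (79, 9, 4), (67, 9, 5), (71, 9, 5), (77, 9, 5), (65, 9, 7), (65, 9, 8),
    (54, 9, 1), (57, 9, 1), (62, 9, 5), (42, 9, 1), (64, 9, 0), (67, 9, 2), (65, 9, 5), (67, 9, 1), (78, 9, 8),
    (60, 9, 5), (56, 10, 6), (63, 10, 10), (39, 10, 11), (46, 10, 11), (73, 10, 7), (55, 10, 11), (61, 10, 11),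
    (34, 10, 0), (63, 10, 8), (72, 10, 11), (51, 10, 2), (56, 10, 4), (54, 10, 10), (65, 10, 3), (61, 10, 6),
    (56, 10, 2), (65, 10, 7), (48, 1, 1), (49, 1, 1), (62, 1, 1), (72, 1, 1), (52, 2, 7), (63, 2, 9), (63, 2, 5),
    (74, 6, 2)]

/-- The table of level 4. -/
def tab4 : Tab where
  n := 112
  j := 4
  act := [
    [0, 0, 0, 0, 0, 0, 1, 1], [1, 1, 1, 1, 2, 3, 0, 0], [4, 5, 6, 7, 3, 1, 8, 8], [9, 10, 11, 12, 1, 2, 13, 13],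
    [14, 2, 4, 4, 15, 16, 17, 17], [2, 18, 8, 19, 6, 20, 12, 12], [15, 21, 7, 2, 20, 5, 11, 11],
    [22, 23, 2, 6, 24, 23, 10, 10], [23, 25, 19, 5, 26, 27, 2, 2], [28, 3, 9, 9, 29, 30, 18, 18],
    [3, 17, 13, 23, 31, 11, 7, 7], [30, 32, 12, 3, 10, 31, 6, 6], [33, 19, 3, 11, 19, 34, 5, 5],
    [19, 35, 23, 10, 36, 37, 3, 3], [18, 4, 14, 14, 38, 39, 28, 28], [40, 6, 41, 22, 16, 4, 25, 25],
    [42, 31, 43, 44, 4, 15, 45, 45], [10, 28, 25, 32, 46, 47, 4, 4], [5, 14, 35, 21, 48, 49, 9, 9],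
    [12, 13, 5, 8, 34, 12, 23, 23], [29, 44, 50, 24, 5, 6, 51, 51], [6, 52, 18, 35, 53, 54, 33, 33],
    [25, 7, 15, 41, 55, 56, 32, 32], [7, 8, 10, 13, 7, 24, 19, 19], [57, 42, 20, 50, 23, 7, 58, 58],
    [8, 22, 32, 17, 59, 60, 15, 15], [56, 61, 36, 62, 27, 8, 37, 37], [63, 64, 65, 37, 8, 26, 27, 27],
    [17, 9, 28, 28, 61, 66, 14, 14], [67, 20, 68, 57, 30, 9, 69, 69], [53, 11, 52, 33, 9, 29, 35, 35],
    [16, 57, 70, 34, 11, 10, 71, 71], [11, 41, 17, 25, 72, 40, 22, 22], [35, 12, 30, 52, 73, 64, 21, 21],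
    [44, 67, 31, 70, 12, 19, 74, 74], [13, 33, 21, 18, 75, 76, 30, 30], [77, 55, 62, 26, 37, 13, 36, 36],
    [73, 39, 27, 65, 13, 36, 26, 26], [59, 78, 76, 49, 39, 14, 79, 79], [37, 79, 55, 80, 14, 38, 77, 77],
    [52, 15, 40, 40, 32, 72, 41, 41], [32, 53, 22, 15, 80, 78, 40, 40], [24, 16, 42, 42, 62, 50, 81, 81],
    [50, 72, 44, 16, 79, 82, 83, 83], [20, 34, 16, 43, 77, 84, 85, 85], [74, 86, 87, 85, 45, 45, 16, 16],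
    [79, 73, 66, 59, 47, 17, 60, 60], [88, 60, 73, 89, 17, 46, 47, 47], [78, 75, 56, 79, 49, 18, 48, 48],
    [89, 56, 38, 76, 18, 48, 75, 75], [90, 43, 24, 20, 42, 62, 86, 86], [83, 91, 81, 86, 92, 71, 20, 20],
    [21, 40, 33, 30, 88, 93, 53, 53], [41, 30, 53, 53, 54, 21, 52, 52], [68, 94, 84, 82, 21, 53, 95, 95],
    [36, 62, 80, 39, 56, 22, 55, 55], [49, 26, 79, 48, 22, 55, 80, 80], [31, 24, 29, 68, 90, 63, 96, 96],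
    [81, 69, 58, 58, 74, 97, 24, 24], [75, 38, 46, 66, 60, 25, 59, 59], [47, 76, 63, 88, 25, 59, 46, 46],
    [26, 89, 64, 93, 66, 28, 63, 63], [55, 80, 26, 36, 50, 42, 62, 62], [93, 27, 88, 60, 57, 90, 61, 61],
    [27, 65, 93, 61, 33, 73, 64, 64], [64, 93, 37, 27, 67, 70, 65, 65], [76, 88, 59, 46, 28, 61, 89, 89],
    [34, 29, 67, 67, 70, 65, 98, 98], [70, 54, 57, 29, 94, 89, 99, 99], [58, 100, 91, 96, 69, 69, 29, 29],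
    [84, 68, 34, 31, 65, 67, 100, 100], [99, 87, 98, 100, 51, 92, 31, 31], [43, 82, 90, 94, 40, 32, 101, 101],
    [46, 37, 89, 47, 64, 33, 93, 93], [98, 45, 74, 74, 97, 58, 34, 34], [48, 59, 77, 78, 76, 35, 49, 49],
    [60, 66, 49, 38, 35, 75, 76, 76], [80, 36, 78, 75, 84, 44, 39, 39], [38, 48, 75, 77, 41, 80, 78, 78],
    [39, 46, 48, 56, 82, 43, 38, 38], [62, 77, 39, 55, 78, 41, 56, 56], [85, 58, 86, 51, 81, 81, 42, 42],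
    [72, 90, 54, 84, 43, 79, 102, 102], [103, 51, 102, 95, 99, 104, 43, 43], [94, 70, 82, 54, 44, 77, 87, 87],
    [100, 81, 45, 87, 105, 96, 44, 44], [45, 96, 51, 81, 86, 86, 50, 50], [71, 101, 85, 45, 106, 91, 84, 84],
    [66, 47, 60, 63, 93, 52, 88, 88], [61, 49, 47, 73, 68, 94, 66, 66], [82, 50, 94, 72, 63, 57, 91, 91],
    [51, 95, 96, 69, 87, 106, 90, 90], [104, 106, 107, 108, 71, 51, 108, 108], [65, 63, 61, 64, 52, 88, 73, 73],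
    [54, 84, 72, 90, 89, 68, 103, 103], [91, 103, 83, 102, 95, 95, 54, 54], [86, 98, 69, 91, 85, 105, 57, 57],
    [107, 109, 97, 97, 58, 74, 107, 107], [96, 74, 100, 71, 98, 98, 67, 67], [102, 71, 103, 101, 104, 83, 68, 68],
    [69, 85, 71, 98, 100, 100, 70, 70], [87, 102, 99, 103, 101, 101, 72, 72], [101, 99, 95, 83, 103, 110, 82, 82],
    [95, 83, 101, 99, 110, 102, 94, 94], [110, 92, 110, 111, 83, 99, 106, 106],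
    [108, 107, 109, 106, 96, 85, 105, 105], [92, 111, 105, 109, 91, 87, 104, 104],
    [105, 97, 108, 92, 107, 107, 97, 97], [109, 105, 92, 107, 108, 108, 92, 92],
    [97, 108, 106, 105, 109, 109, 109, 109], [111, 104, 111, 104, 102, 103, 110, 110],
    [106, 110, 104, 110, 111, 111, 111, 111]]
  tree := [
    (0, 6), (1, 4), (1, 5), (2, 0), (2, 1), (2, 2), (2, 3), (2, 6), (3, 0), (3, 1), (3, 2), (3, 3), (3, 6), (4, 0),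
    (4, 4), (4, 5), (4, 6), (5, 1), (5, 3), (5, 5), (6, 1), (7, 0), (7, 1), (7, 4), (8, 1), (8, 4), (8, 5), (9, 0),
    (9, 4), (9, 5), (10, 4), (11, 1), (12, 0), (12, 5), (13, 1), (13, 4), (13, 5), (14, 4), (14, 5), (15, 0),
    (15, 2), (16, 0), (16, 2), (16, 3), (16, 6), (17, 4), (17, 5), (18, 4), (18, 5), (20, 2), (20, 6), (21, 1),
    (21, 4), (21, 5), (22, 4), (22, 5), (24, 0), (24, 6), (25, 4), (25, 5), (26, 1), (26, 3), (27, 0), (27, 1),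
    (27, 2), (28, 5), (29, 0), (29, 2), (29, 6), (31, 2), (31, 6), (32, 4), (33, 4), (34, 6), (35, 4), (35, 5),
    (36, 0), (38, 1), (38, 6), (39, 3), (42, 6), (43, 5), (43, 6), (44, 5), (44, 6), (45, 1), (45, 2), (47, 0),
    (47, 3), (50, 0), (51, 1), (51, 4), (52, 5), (54, 1), (54, 6), (57, 6), (58, 5), (67, 6), (68, 6), (69, 1),
    (72, 6), (82, 6), (83, 0), (83, 5), (85, 4), (87, 4), (92, 2), (92, 3), (97, 1), (102, 5), (104, 3)]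
  deds := [
    (7, 1, 2), (12, 1, 2), (44, 1, 2), (108, 1, 2), (3, 6, 2), (16, 6, 2), (27, 6, 2), (30, 6, 2), (37, 6, 2),
    (39, 6, 2), (47, 6, 2), (49, 6, 2), (54, 6, 2), (56, 6, 2), (60, 6, 2), (76, 6, 2), (1, 11, 3), (85, 11, 3),
    (91, 11, 2), (1, 12, 3), (25, 12, 3), (86, 12, 3), (100, 12, 3), (0, 13, 5), (37, 14, 8), (10, 15, 8),
    (12, 7, 5), (6, 7, 3), (10, 7, 0), (6, 8, 4), (20, 8, 3), (30, 8, 1), (10, 9, 6), (12, 9, 1), (42, 10, 8),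
    (10, 11, 3), (25, 11, 2), (35, 11, 2), (91, 12, 3), (3, 14, 8), (8, 14, 0), (37, 14, 0), (20, 6, 2),
    (11, 6, 2), (34, 6, 2), (24, 7, 4), (24, 7, 5), (31, 7, 6), (90, 7, 2), (31, 8, 3), (23, 8, 6), (34, 10, 3),
    (58, 11, 3), (23, 11, 0), (17, 11, 4), (74, 11, 3), (10, 12, 0), (69, 12, 3), (25, 12, 0), (71, 12, 4),
    (35, 12, 0), (10, 13, 4), (24, 1, 2), (34, 1, 2), (96, 1, 2), (13, 7, 3), (37, 8, 3), (70, 8, 4), (67, 8, 0),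
    (42, 9, 0), (75, 10, 11), (23, 11, 4), (23, 11, 2), (98, 11, 3), (23, 12, 1), (74, 12, 3), (21, 13, 0),
    (34, 5, 12), (27, 7, 6), (42, 7, 4), (5, 7, 4), (84, 7, 1), (53, 8, 5), (57, 8, 2), (42, 8, 6), (63, 8, 2),
    (15, 9, 2), (65, 9, 7), (19, 9, 6), (4, 9, 4), (76, 9, 8), (65, 9, 8), (82, 9, 2), (59, 10, 11), (30, 10, 11),
    (5, 11, 4), (21, 11, 4), (5, 11, 2), (61, 11, 2), (81, 11, 3), (87, 11, 2), (21, 12, 2), (18, 12, 0),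
    (11, 12, 2), (45, 12, 3), (58, 12, 3), (61, 12, 0), (6, 13, 3), (18, 13, 0), (25, 13, 0), (32, 13, 0),
    (44, 13, 5), (35, 13, 0), (16, 13, 3), (51, 14, 9), (20, 14, 6), (74, 14, 9), (71, 14, 0), (32, 15, 4),
    (22, 1, 2), (85, 1, 2), (25, 2, 2), (52, 2, 5), (32, 2, 6), (40, 2, 9), (52, 3, 5), (82, 3, 2), (18, 4, 4),
    (52, 4, 3), (33, 4, 9), (17, 4, 4), (41, 4, 3), (33, 5, 11), (14, 5, 11), (28, 5, 4), (9, 5, 11), (57, 5, 11),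
    (98, 5, 12), (50, 6, 2), (71, 6, 2), (97, 6, 2), (65, 6, 0), (32, 7, 2), (56, 7, 1), (68, 7, 3), (90, 7, 4),
    (84, 7, 2), (50, 7, 1), (62, 7, 6), (55, 7, 1), (98, 7, 2), (94, 7, 0), (41, 8, 4), (38, 8, 5), (26, 8, 5),
    (59, 8, 5), (77, 8, 2), (88, 8, 2), (82, 8, 3), (81, 8, 2), (93, 8, 3), (97, 8, 5), (40, 8, 2), (63, 8, 5),
    (54, 9, 8), (57, 9, 5), (82, 9, 4), (78, 9, 2), (37, 9, 1), (20, 9, 1), (36, 9, 1), (86, 9, 3), (68, 9, 0),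
    (100, 9, 3), (56, 9, 2), (80, 9, 1), (78, 9, 0), (45, 9, 3), (69, 9, 3), (78, 10, 6), (66, 10, 6), (72, 10, 9),
    (49, 10, 6), (47, 10, 6), (63, 10, 9), (65, 10, 9), (39, 10, 6), (38, 10, 11), (84, 10, 9), (28, 10, 0),
    (73, 10, 11), (33, 10, 10), (62, 10, 3), (80, 10, 7), (85, 10, 7), (68, 10, 1), (93, 10, 4), (93, 10, 5),
    (72, 10, 4), (80, 10, 4), (77, 10, 4), (18, 11, 2), (28, 11, 2), (14, 11, 2), (41, 11, 2), (32, 11, 4),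
    (41, 11, 4), (52, 11, 2), (52, 11, 4), (39, 11, 2), (80, 11, 4), (86, 11, 2), (83, 11, 3), (34, 11, 2),
    (102, 11, 3), (100, 11, 2), (94, 11, 4), (67, 11, 2), (39, 11, 3), (81, 11, 0), (87, 11, 3), (95, 11, 3),
    (81, 11, 4), (69, 11, 4), (91, 11, 3), (80, 12, 2), (36, 12, 0), (39, 12, 0), (51, 12, 3), (86, 12, 4),
    (43, 12, 2), (103, 12, 3), (55, 12, 0), (98, 12, 3), (58, 12, 0), (62, 12, 0), (100, 12, 4), (79, 12, 3),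
    (79, 12, 0), (99, 12, 3), (94, 12, 2), (101, 12, 3), (70, 12, 2), (86, 12, 0), (87, 12, 0), (95, 12, 3),
    (91, 12, 0), (83, 12, 3), (95, 12, 0), (96, 12, 0), (101, 12, 0), (90, 13, 6), (75, 13, 5), (78, 13, 3),
    (27, 13, 3), (71, 13, 6), (57, 13, 2), (49, 13, 1), (46, 13, 7), (61, 13, 0), (48, 13, 5), (65, 13, 3),
    (76, 13, 1), (83, 13, 4), (99, 13, 1), (49, 13, 5), (102, 13, 7), (82, 13, 5), (93, 13, 0), (68, 13, 3),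
    (60, 14, 8), (76, 14, 6), (101, 14, 3), (60, 14, 0), (60, 15, 9), (87, 15, 10), (78, 15, 9), (103, 15, 6),
    (59, 15, 4), (89, 15, 5), (64, 15, 6), (95, 15, 6), (66, 1, 1), (89, 1, 2), (48, 1, 0), (61, 2, 8), (63, 2, 9),
    (60, 2, 9), (66, 2, 2), (47, 2, 1), (66, 6, 2), (89, 6, 2), (96, 6, 2), (91, 6, 2), (110, 6, 2), (105, 7, 4),
    (82, 7, 2), (99, 7, 2), (79, 7, 2), (107, 7, 3), (104, 7, 1), (105, 7, 6), (110, 7, 6), (92, 7, 1),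
    (107, 7, 0), (109, 7, 0), (104, 8, 2), (104, 8, 3), (108, 8, 6), (111, 8, 6), (106, 9, 6), (108, 9, 5),
    (105, 9, 5), (111, 9, 5), (111, 9, 1), (97, 10, 9), (93, 11, 2), (66, 11, 2), (66, 11, 4), (93, 11, 4),
    (64, 11, 2), (47, 11, 4), (88, 12, 2), (104, 14, 6), (105, 14, 8), (106, 14, 6), (110, 14, 4), (109, 15, 8),
    (111, 15, 8), (107, 15, 4), (92, 15, 8), (111, 1, 2), (97, 11, 2), (108, 11, 2)]

/-- Test vectors separating the cosets of level 3. -/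
def vecs3 : List (List ℕ) := [
  [7, 8, 7, 0],
  [2, 8, 3, 8],
  [5, 6, 8, 3],
  [3, 0, 6, 3],
  [7, 5, 7, 0],
  [2, 4, 5, 1],
  [3, 2, 0, 1],
  [3, 5, 2, 4],
  [3, 4, 8, 6],
  [5, 6, 6, 5],
  [1, 2, 5, 8],
  [5, 2, 6, 4],
  [1, 8, 8, 2],
  [4, 7, 2, 2],
  [6, 5, 7, 2],
  [3, 3, 6, 0],
  [3, 2, 5, 4],
  [7, 7, 6, 1],
  [4, 1, 1, 8],
  [5, 3, 6, 5],
  [1, 5, 3, 8],
  [2, 2, 4, 7],
  [6, 6, 5, 7],
  [0, 1, 8, 0],
  [1, 0, 6, 1],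
  [1, 6, 4, 5],
  [7, 5, 3, 6],
  [5, 2, 7, 1],
  [3, 3, 5, 7],
  [0, 7, 8, 4],
  [4, 6, 7, 1],
  [5, 5, 0, 7],
  [4, 3, 3, 4],
  [2, 3, 4, 4],
  [2, 1, 4, 5],
  [1, 6, 5, 8],
  [7, 6, 8, 2],
  [4, 2, 5, 6],
  [3, 4, 1, 7],
  [0, 8, 7, 5],
  [2, 3, 1, 0],
  [2, 4, 1, 5],
  [1, 7, 2, 7],
  [4, 8, 7, 0],
  [3, 6, 0, 1],
  [3, 8, 3, 4],
  [0, 8, 8, 7],
  [7, 3, 4, 3],
  [3, 1, 4, 8],
  [3, 4, 1, 4],
  [1, 5, 4, 6],
  [8, 0, 7, 8]]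

/-- Test vectors separating the cosets of level 4. -/
def vecs4 : List (List ℕ) := [
  [7, 8, 7, 0],
  [2, 8, 3, 8],
  [5, 6, 8, 3],
  [5, 7, 3, 3],
  [6, 1, 4, 7],
  [3, 0, 6, 3],
  [7, 5, 7, 0],
  [2, 4, 5, 1],
  [3, 2, 0, 1],
  [3, 5, 2, 4],
  [6, 7, 8, 6],
  [0, 3, 3, 3],
  [3, 4, 8, 6],
  [5, 6, 6, 5],
  [3, 3, 5, 7],
  [5, 8, 3, 2],
  [1, 2, 5, 8],
  [4, 7, 2, 2],
  [5, 5, 0, 7],
  [4, 6, 7, 1],
  [2, 1, 4, 5],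
  [2, 2, 4, 7],
  [1, 3, 7, 5],
  [2, 4, 1, 5],
  [1, 8, 8, 2],
  [7, 4, 8, 0],
  [3, 2, 5, 4],
  [3, 3, 6, 0],
  [7, 7, 6, 1],
  [0, 8, 7, 5],
  [4, 1, 1, 8],
  [6, 4, 2, 4],
  [1, 5, 3, 8],
  [0, 6, 1, 1],
  [6, 6, 5, 7],
  [0, 1, 8, 0],
  [1, 0, 6, 1],
  [3, 8, 6, 8],
  [1, 6, 4, 5],
  [7, 5, 3, 6],
  [1, 7, 2, 7],
  [4, 3, 3, 4],
  [5, 0, 2, 0],
  [5, 2, 7, 1],
  [7, 2, 7, 2],
  [0, 0, 8, 3],
  [0, 7, 8, 4],
  [1, 6, 5, 8],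
  [4, 2, 5, 6],
  [3, 4, 1, 7],
  [0, 6, 1, 6],
  [4, 8, 7, 0],
  [8, 7, 0, 8],
  [5, 3, 6, 5],
  [3, 1, 4, 8],
  [1, 6, 6, 0],
  [3, 4, 1, 4],
  [1, 5, 4, 6],
  [8, 0, 7, 8],
  [1, 3, 4, 5],
  [2, 8, 0, 0],
  [3, 2, 5, 7]]

end CfsgLib.SUPres.Base.SU43
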